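import Groth.Agent.Lib.CMBasics.Basic
import Groth.Agent.Lib.Flatness.InjMod
import Groth.Agent.Lib.Flatness.Criterion
import Groth.Agent.Lib.Flatness.Fibre

/-!
# Depth of `N ⊗_R M` for `N` flat over `R`

For a local homomorphism `R → S` of noetherian local rings, a finite `R`-module `M` and a finite
`S`-module `N` which is flat over `R`, `depth_S (N ⊗_R M) = depth_R M + depth_S (N / m_R N)`.
-/

set_option autoImplicit false
universe u

open IsLocalRing TensorProduct Function
open scoped Pointwise

namespace GrothLib.DepthFlat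

variable {R S : Type u} [CommRing R] [CommRing S] [IsLocalRing R] [IsLocalRing S]
  [IsNoetherianRing R] [IsNoetherianRing S] [Algebra R S] [IsLocalHom (algebraMap R S)]
  {M N : Type u} [AddCommGroup M] [Module R M] [AddCommGroup N] [Module S N] [Module R N]
  [IsScalarTower R S N]

variable (R S N) in
/-- `N / m_R N` as an `S`-module. -/
abbrev Fib : Type u := N ⧸ (maximalIdeal R).map (algebraMap R S) • (⊤ : Submodule S N)

variable (R S N) in
theorem smul_top_restrictScalars :
    ((maximalIdeal R).map (algebraMap R S) • (⊤ : Submodule S N)).restrictScalars R =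
      maximalIdeal R • (⊤ : Submodule R N) :=
  by rw [Ideal.smul_restrictScalars]; rfl

variable (R S N) in
/-- `k ⊗_R N ≅ N / m_R N`. -/
noncomputable def residueTensor : ResidueField R ⊗[R] N ≃ₗ[R] Fib R S N :=
  (TensorProduct.quotTensorEquivQuotSMul N (maximalIdeal R)).trans
    ((Submodule.quotEquivOfEq _ _ (smul_top_restrictScalars R S N).symm).trans
      (Submodule.Quotient.restrictScalarsEquiv R _))

theorem residueTensor_tmul (n : N) :
    residueTensor R S N ((1 : ResidueField R) ⊗ₜ n) = Submodule.Quotient.mk n := by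
  show (Submodule.Quotient.restrictScalarsEquiv R _) ((Submodule.quotEquivOfEq _ _ (smul_top_restrictScalars R S N).symm)
    (TensorProduct.quotTensorEquivQuotSMul N (maximalIdeal R) ((Ideal.Quotient.mk _ 1) ⊗ₜ n))) = _
  rw [TensorProduct.quotTensorEquivQuotSMul_mk_tmul, one_smul]
  rfl

section Regular

variable [Module.Finite S N] [Module.Flat R N] {y : S} (hy : IsSMulRegular (Fib R S N) y)
include hy

theorem regular_facts :
    IsSMulRegular N y ∧ Module.Flat R (N ⧸ LinearMap.range (DistribSMul.toLinearMap R N y)) ∧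
      ∀ (Q : Type u) [AddCommGroup Q] [Module R Q],
        Injective ((DistribSMul.toLinearMap R N y).lTensor Q) := by
  have hu : Injective ((DistribSMul.toLinearMap R N y).lTensor (ResidueField R)) := by
    have key : ∀ z, residueTensor R S N ((DistribSMul.toLinearMap R N y).lTensor (ResidueField R) z) =
        y • residueTensor R S N z := by
      intro z
      obtain ⟨n, rfl⟩ : ∃ n, (1 : ResidueField R) ⊗ₜ[R] n = z := by
        obtain ⟨n, hn⟩ := Submodule.Quotient.mk_surjective _ (residueTensor R S N z)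
        exact ⟨n, (residueTensor R S N).injective (by rw [residueTensor_tmul, hn])⟩
      rw [LinearMap.lTensor_tmul, residueTensor_tmul, residueTensor_tmul]
      rfl
    intro a b hab
    apply (residueTensor R S N).injective
    apply hy
    show y • residueTensor R S N a = y • residueTensor R S N b
    rw [← key, ← key, hab]
  exact Flatness.flat_coker_of_forall_mem (DistribSMul.toLinearMap R N y) fun J x hx ↦
    Flatness.mem_smul_top_of_map_mem (S := S) _ hu J x hx

theorem flat_quotSMulTop : Module.Flat R (QuotSMulTop y N) := by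
  have h := (regular_facts hy).2.1
  let e : (N ⧸ LinearMap.range (DistribSMul.toLinearMap R N y)) ≃ₗ[R] QuotSMulTop y N :=
    (Submodule.quotEquivOfEq _ ((y • (⊤ : Submodule S N)).restrictScalars R) (by
      ext x
      simp [Submodule.mem_smul_pointwise_iff_exists])).trans (Submodule.Quotient.restrictScalarsEquiv R _)
  exact Module.Flat.of_linearEquiv e.symm

theorem isSMulRegular_tensor : IsSMulRegular (N ⊗[R] M) y := by
  have h := (regular_facts hy).2.2 M
  have key : ∀ z : N ⊗[R] M, (DistribSMul.toLinearMap R N y).lTensor M (TensorProduct.comm R N M z) =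
      TensorProduct.comm R N M (y • z) := fun z ↦ by
    induction z using TensorProduct.induction_on with
    | zero => simp
    | tmul n m => rw [TensorProduct.smul_tmul', TensorProduct.comm_tmul, TensorProduct.comm_tmul, LinearMap.lTensor_tmul]; rfl
    | add a b ha hb => rw [map_add, map_add, ha, hb, smul_add, map_add]
  intro a b hab
  have h2 : TensorProduct.comm R N M (y • a) = TensorProduct.comm R N M (y • b) := congrArg _ hab
  rw [← key, ← key] at h2
  exact (TensorProduct.comm R N M).injective (h h2)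

end Regular

theorem quotSMulTop_tensor_equiv_aux (y : S) {P : Type u} [AddCommGroup P] [Module S P] [Module R P]
    [IsScalarTower R S P] (q : N →ₗ[S] P) (hq : Surjective q)
    (hex : Exact (DistribSMul.toLinearMap R N y) (q.restrictScalars R)) :
    Nonempty (QuotSMulTop y (N ⊗[R] M) ≃ₗ[S] P ⊗[R] M) := by
  let g : N ⊗[R] M →ₗ[S] P ⊗[R] M := AlgebraTensorModule.map q (LinearMap.id : M →ₗ[R] M)
  let u : N ⊗[R] M →ₗ[S] N ⊗[R] M := y • LinearMap.id
  have hg : ∀ z, g z = (q.restrictScalars R).rTensor M z := fun z ↦ by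
    induction z using TensorProduct.induction_on with
    | zero => simp
    | tmul n m => rfl
    | add a b ha hb => simp only [map_add, ha, hb]
  have hu : ∀ z, u z = (DistribSMul.toLinearMap R N y).rTensor M z := fun z ↦ by
    induction z using TensorProduct.induction_on with
    | zero => simp
    | tmul n m => simp [u, TensorProduct.smul_tmul']
    | add a b ha hb => simp only [map_add, ha, hb]
  have hs : Surjective (q.restrictScalars R) := hq
  have h : Exact u g := by
    intro z
    rw [hg, (rTensor_exact M hex hs) z]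
    exact ⟨fun ⟨w, hw⟩ ↦ ⟨w, (hu w).trans hw⟩, fun ⟨w, hw⟩ ↦ ⟨w, (hu w).symm.trans hw⟩⟩
  have hgs : Surjective g := fun z ↦ by
    obtain ⟨w, rfl⟩ := LinearMap.rTensor_surjective M hs z
    exact ⟨w, hg w⟩
  have hr : LinearMap.range u = y • (⊤ : Submodule S (N ⊗[R] M)) := by
    ext x; simp [u, Submodule.mem_smul_pointwise_iff_exists]
  exact ⟨(Submodule.quotEquivOfEq _ _ hr.symm).trans (h.linearEquivOfSurjective hgs)⟩

/-- `(N/yN) ⊗ M ≅ (N ⊗ M)/y`. -/
theorem quotSMulTop_tensor_equiv (y : S) :
    Nonempty (QuotSMulTop y (N ⊗[R] M) ≃ₗ[S] QuotSMulTop y N ⊗[R] M) := by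
  refine quotSMulTop_tensor_equiv_aux y (y • (⊤ : Submodule S N)).mkQ (Submodule.mkQ_surjective _) ?_
  intro x
  rw [LinearMap.restrictScalars_apply, Submodule.mkQ_apply, Submodule.Quotient.mk_eq_zero, Submodule.mem_smul_pointwise_iff_exists]
  exact ⟨fun ⟨w, _, hw⟩ ↦ ⟨w, hw⟩, fun ⟨w, hw⟩ ↦ ⟨w, Submodule.mem_top, hw⟩⟩

/-- `(N/yN)/m_R ≅ (N/m_R N)/y`. -/
theorem fib_quotSMulTop_equiv (y : S) :
    Nonempty (Fib R S (QuotSMulTop y N) ≃ₗ[S] QuotSMulTop y (Fib R S N)) := by
  let I := (maximalIdeal R).map (algebraMap R S)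
  let f : QuotSMulTop y N →ₗ[S] QuotSMulTop y (Fib R S N) :=
    Submodule.mapQ _ _ (I • (⊤ : Submodule S N)).mkQ (by
      intro x hx
      obtain ⟨w, -, rfl⟩ := (Submodule.mem_smul_pointwise_iff_exists _ _ _).mp hx
      rw [Submodule.mem_comap, map_smul]
      exact Submodule.smul_mem_pointwise_smul _ _ _ Submodule.mem_top)
  have hf : Surjective f := fun z ↦ by
    obtain ⟨z, rfl⟩ := Submodule.Quotient.mk_surjective _ z
    obtain ⟨z, rfl⟩ := Submodule.Quotient.mk_surjective _ z
    exact ⟨Submodule.Quotient.mk z, rfl⟩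
  have hker : LinearMap.ker f = I • (⊤ : Submodule S (QuotSMulTop y N)) := by
    refine le_antisymm (fun z hz ↦ ?_) ?_
    · obtain ⟨z, rfl⟩ := Submodule.Quotient.mk_surjective _ z
      obtain ⟨w, -, hw⟩ := (Submodule.mem_smul_pointwise_iff_exists _ _ _).mp ((Submodule.Quotient.mk_eq_zero _).mp hz)
      obtain ⟨w, rfl⟩ := Submodule.Quotient.mk_surjective _ w
      have h1 : z - y • w ∈ I • (⊤ : Submodule S N) := (Submodule.Quotient.eq _).mp hw.symm
      have h2 := Submodule.smul_top_le_comap_smul_top I (y • (⊤ : Submodule S N)).mkQ h1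
      rw [Submodule.mem_comap, map_sub, Submodule.mkQ_apply, Submodule.mkQ_apply,
        (Submodule.Quotient.mk_eq_zero _).mpr (Submodule.smul_mem_pointwise_smul _ _ _ Submodule.mem_top), sub_zero] at h2
      exact h2
    · refine Submodule.smul_le.mpr fun r hr z _ ↦ ?_
      obtain ⟨z, rfl⟩ := Submodule.Quotient.mk_surjective _ z
      rw [LinearMap.mem_ker, map_smul]
      show r • Submodule.Quotient.mk ((I • (⊤ : Submodule S N)).mkQ z) = (0 : QuotSMulTop y (Fib R S N))
      rw [← Submodule.Quotient.mk_smul, Submodule.mkQ_apply, ← Submodule.Quotient.mk_smul,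
        (Submodule.Quotient.mk_eq_zero _).mpr (Submodule.smul_mem_smul hr Submodule.mem_top)]
      rfl
  exact ⟨(Submodule.quotEquivOfEq _ _ hker.symm).trans (f.quotKerEquivOfSurjective hf)⟩

/-- `N ⊗ (M/xM) ≅ (N ⊗ M)/x`. -/
theorem quotSMulTop_tensor_equiv' (x : R) :
    Nonempty (QuotSMulTop (algebraMap R S x) (N ⊗[R] M) ≃ₗ[S] N ⊗[R] QuotSMulTop x M) := by
  let q : M →ₗ[R] QuotSMulTop x M := (x • (⊤ : Submodule R M)).mkQ
  let u : N ⊗[R] M →ₗ[S] N ⊗[R] M := algebraMap R S x • LinearMap.id
  let g : N ⊗[R] M →ₗ[S] N ⊗[R] QuotSMulTop x M := AlgebraTensorModule.lTensor S N q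
  have hq : Surjective q := Submodule.mkQ_surjective _
  have hex : Exact (DistribSMul.toLinearMap R M x) q := by
    intro z
    rw [Submodule.mkQ_apply, Submodule.Quotient.mk_eq_zero, Submodule.mem_smul_pointwise_iff_exists]
    exact ⟨fun ⟨w, _, hw⟩ ↦ ⟨w, hw⟩, fun ⟨w, hw⟩ ↦ ⟨w, Submodule.mem_top, hw⟩⟩
  have hu : ∀ z, u z = (DistribSMul.toLinearMap R M x).lTensor N z := fun z ↦ by
    induction z using TensorProduct.induction_on with
    | zero => simp
    | tmul n m => simp [u]
    | add a b ha hb => simp only [map_add, ha, hb]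
  have h : Exact u g := by
    intro z
    rw [show g z = q.lTensor N z from rfl, (lTensor_exact N hex hq) z]
    exact ⟨fun ⟨w, hw⟩ ↦ ⟨w, (hu w).trans hw⟩, fun ⟨w, hw⟩ ↦ ⟨w, (hu w).symm.trans hw⟩⟩
  have hgs : Surjective g := LinearMap.lTensor_surjective N hq
  have hr : LinearMap.range u = algebraMap R S x • (⊤ : Submodule S (N ⊗[R] M)) := by
    ext z; simp [u, Submodule.mem_smul_pointwise_iff_exists]
  exact ⟨(Submodule.quotEquivOfEq _ _ hr.symm).trans (h.linearEquivOfSurjective hgs)⟩

theorem isSMulRegular_tensor' [Module.Flat R N] {x : R} (hx : IsSMulRegular M x) :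
    IsSMulRegular (N ⊗[R] M) (algebraMap R S x) := by
  have h : Injective ((DistribSMul.toLinearMap R M x).lTensor N) :=
    Module.Flat.lTensor_preserves_injective_linearMap _ hx
  have hu : ∀ z : N ⊗[R] M, algebraMap R S x • z = (DistribSMul.toLinearMap R M x).lTensor N z := fun z ↦ by
    induction z using TensorProduct.induction_on with
    | zero => simp
    | tmul n m => simp
    | add a b ha hb => simp only [map_add, smul_add, ha, hb]
  intro a b hab
  have h2 : algebraMap R S x • a = algebraMap R S x • b := hab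
  rw [hu, hu] at h2
  exact h h2

theorem maximalIdeal_mem_ass_tensor [Module.Flat R N] [Module.Finite R M] [Module.Finite S N]
    (hM : maximalIdeal R ∈ associatedPrimes R M) (hF : maximalIdeal S ∈ associatedPrimes S (Fib R S N)) :
    maximalIdeal S ∈ associatedPrimes S (N ⊗[R] M) := by
  obtain ⟨-, f, hf⟩ := (isAssociatedPrime_iff_exists_injective_linearMap _ _).1 hM
  let v : N →ₗ[S] N ⊗[R] M := (AlgebraTensorModule.mk R S N M).flip (f 1)
  have hv : ∀ n, v n = n ⊗ₜ f 1 := fun n ↦ rfl
  have hker : LinearMap.ker v = (maximalIdeal R).map (algebraMap R S) • (⊤ : Submodule S N) := by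
    refine le_antisymm (fun n hn ↦ ?_) ?_
    · have h0 : f.lTensor N (n ⊗ₜ[R] (1 : R ⧸ maximalIdeal R)) = 0 := by
        rw [LinearMap.lTensor_tmul, ← hv]; exact hn
      have h1 : n ⊗ₜ[R] (1 : R ⧸ maximalIdeal R) = 0 :=
        Module.Flat.lTensor_preserves_injective_linearMap f hf (h0.trans (map_zero _).symm)
      have h2 : (1 : ResidueField R) ⊗ₜ[R] n = 0 := by
        have := congrArg (TensorProduct.comm R N (R ⧸ maximalIdeal R)) h1
        rwa [map_zero, TensorProduct.comm_tmul] at this
      have h3 := congrArg (residueTensor R S N) h2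
      rw [map_zero, residueTensor_tmul] at h3
      exact (Submodule.Quotient.mk_eq_zero _).mp h3
    · refine Submodule.smul_le.mpr fun s hs n _ ↦ ?_
      induction hs using Submodule.span_induction with
      | mem a ha =>
        obtain ⟨r, hr, rfl⟩ := ha
        have h1 : r • f 1 = 0 := by
          rw [← map_smul, show r • (1 : R ⧸ maximalIdeal R) = 0 from ?_, map_zero]
          rw [Algebra.smul_def, mul_one]
          exact Ideal.Quotient.eq_zero_iff_mem.mpr hr
        rw [LinearMap.mem_ker, map_smul, hv, algebraMap_smul, ← TensorProduct.tmul_smul, h1, TensorProduct.tmul_zero]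
      | zero => rw [zero_smul]; exact zero_mem _
      | add a b _ _ ha hb => rw [add_smul]; exact add_mem ha hb
      | smul a b _ hb => rw [smul_assoc]; exact Submodule.smul_mem _ a hb
  let w : Fib R S N →ₗ[S] N ⊗[R] M := Submodule.liftQ _ v hker.ge
  have hw : Injective w := by
    rw [← LinearMap.ker_eq_bot, Submodule.ker_liftQ, hker, Submodule.mkQ_map_self]
  exact associatedPrimes.subset_of_injective hw hF

theorem depth_tensor_aux :
    ∀ (b a : ℕ) (N : Type u) [AddCommGroup N] [Module S N] [Module R N] [IsScalarTower R S N]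
      [Module.Finite S N] [Module.Flat R N] (M : Type u) [AddCommGroup M] [Module R M] [Module.Finite R M],
      LocCoh.depth S (Fib R S N) = b → LocCoh.depth R M = a →
        LocCoh.depth S (N ⊗[R] M) = ((a + b : ℕ) : ℕ∞) := by
  intro b
  induction b with
  | zero =>
    intro a
    induction a with
    | zero =>
      intro N _ _ _ _ _ _ M _ _ _ hF hM
      haveI := Flatness.finite_tensor (R := R) (S := S) (M := N) M
      rw [Nat.cast_zero, CMBasics.depth_eq_zero_iff] at hF hM
      rw [Nat.add_zero, Nat.cast_zero, CMBasics.depth_eq_zero_iff]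
      exact maximalIdeal_mem_ass_tensor hM hF
    | succ a ih =>
      intro N _ _ _ _ _ _ M _ _ _ hF hM
      haveI := Flatness.finite_tensor (R := R) (S := S) (M := N) M
      haveI : Nontrivial M := not_subsingleton_iff_nontrivial.mp fun h ↦ by
        rw [Depth.depth_eq_top_of_subsingleton] at hM; exact ENat.top_ne_natCast _ hM
      obtain ⟨x, hx, hreg⟩ := (Depth.one_le_idealDepth_iff (maximalIdeal.isMaximal R).ne_top (M := M)).1
        (show (1 : ℕ∞) ≤ LocCoh.depth R M by rw [hM]; exact_mod_cast Nat.le_add_left 1 a)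
      have h1 := Depth.idealDepth_quotSMulTop_add_one (M := M) (maximalIdeal R) hx hreg
      change LocCoh.depth R (QuotSMulTop x M) + 1 = LocCoh.depth R M at h1
      rw [hM, Nat.cast_succ] at h1
      have h2 := ih N (QuotSMulTop x M) hF (WithTop.add_right_cancel ENat.one_ne_top h1)
      have h3 := Depth.idealDepth_quotSMulTop_add_one (M := N ⊗[R] M) (maximalIdeal S)
        (map_nonunit (algebraMap R S) x hx) (isSMulRegular_tensor' hreg)
      haveI := Flatness.finite_tensor (R := R) (S := S) (M := N) (QuotSMulTop x M)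
      obtain ⟨e⟩ := quotSMulTop_tensor_equiv' (S := S) (N := N) (M := M) x
      rw [Depth.idealDepth_eq_of_equiv _ e] at h3
      change LocCoh.depth S (N ⊗[R] QuotSMulTop x M) + 1 = LocCoh.depth S (N ⊗[R] M) at h3
      rw [← h3, h2]; push_cast; ring
  | succ b ih =>
    intro a N _ _ _ _ _ _ M _ _ _ hF hM
    haveI := Flatness.finite_tensor (R := R) (S := S) (M := N) M
    haveI : Nontrivial (Fib R S N) := not_subsingleton_iff_nontrivial.mp fun h ↦ by
      rw [Depth.depth_eq_top_of_subsingleton] at hF; exact ENat.top_ne_natCast _ hF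
    obtain ⟨y, hy, hreg⟩ := (Depth.one_le_idealDepth_iff (maximalIdeal.isMaximal S).ne_top (M := Fib R S N)).1
      (show (1 : ℕ∞) ≤ LocCoh.depth S (Fib R S N) by rw [hF]; exact_mod_cast Nat.le_add_left 1 b)
    have h1 := Depth.idealDepth_quotSMulTop_add_one (M := Fib R S N) (maximalIdeal S) hy hreg
    obtain ⟨e1⟩ := fib_quotSMulTop_equiv (R := R) (S := S) (N := N) y
    rw [← Depth.idealDepth_eq_of_equiv _ e1] at h1
    change LocCoh.depth S (Fib R S (QuotSMulTop y N)) + 1 = LocCoh.depth S (Fib R S N) at h1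
    rw [hF, Nat.cast_succ] at h1
    haveI := flat_quotSMulTop hreg
    have h2 := ih a (QuotSMulTop y N) M (WithTop.add_right_cancel ENat.one_ne_top h1) hM
    have h3 := Depth.idealDepth_quotSMulTop_add_one (M := N ⊗[R] M) (maximalIdeal S) hy (isSMulRegular_tensor hreg)
    haveI := Flatness.finite_tensor (R := R) (S := S) (M := QuotSMulTop y N) M
    obtain ⟨e⟩ := quotSMulTop_tensor_equiv (R := R) (N := N) (M := M) y
    rw [Depth.idealDepth_eq_of_equiv _ e] at h3
    change LocCoh.depth S (QuotSMulTop y N ⊗[R] M) + 1 = LocCoh.depth S (N ⊗[R] M) at h3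
    rw [← h3, h2]; push_cast; ring

/-- `depth_S (N ⊗_R M) = depth_R M + depth_S (N / m_R N)`. -/
theorem depth_tensor [Module.Finite R M] [Module.Finite S N] [Module.Flat R N] :
    LocCoh.depth S (N ⊗[R] M) = LocCoh.depth R M + LocCoh.depth S (Fib R S N) := by
  rcases subsingleton_or_nontrivial M with hM | hM
  · haveI : Subsingleton (N ⊗[R] M) := inferInstance
    rw [Depth.depth_eq_top_of_subsingleton (R := S) (M := N ⊗[R] M), Depth.depth_eq_top_of_subsingleton (R := R) (M := M), top_add]
  rcases subsingleton_or_nontrivial (Fib R S N) with hF | hF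
  · haveI : Subsingleton N := by
      have h : (maximalIdeal R).map (algebraMap R S) • (⊤ : Submodule S N) = ⊤ :=
        Submodule.Quotient.subsingleton_iff.mp hF
      have h' : (⊤ : Submodule S N) = ⊥ := Submodule.eq_bot_of_le_smul_of_le_jacobson_bot _ _ Module.Finite.fg_top h.ge
        Flatness.map_maximalIdeal_le_jacobson
      exact ⟨fun a b ↦ by
        have ha : a ∈ (⊥ : Submodule S N) := h' ▸ Submodule.mem_top
        have hb : b ∈ (⊥ : Submodule S N) := h' ▸ Submodule.mem_top
        rw [(Submodule.mem_bot S).mp ha, (Submodule.mem_bot S).mp hb]⟩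
    haveI : Subsingleton (N ⊗[R] M) := inferInstance
    rw [Depth.depth_eq_top_of_subsingleton (R := S) (M := N ⊗[R] M), Depth.depth_eq_top_of_subsingleton (R := S) (M := Fib R S N), add_top]
  obtain ⟨a, ha⟩ := WithTop.ne_top_iff_exists.mp (Depth.idealDepth_ne_top (M := M) (maximalIdeal.isMaximal R).ne_top)
  obtain ⟨b, hb⟩ := WithTop.ne_top_iff_exists.mp (Depth.idealDepth_ne_top (M := Fib R S N) (maximalIdeal.isMaximal S).ne_top)
  rw [depth_tensor_aux (R := R) (S := S) b a N M hb.symm ha.symm]
  show _ = LocCoh.idealDepth (maximalIdeal R) M + LocCoh.idealDepth (maximalIdeal S) (Fib R S N)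
  rw [← ha, ← hb]
  rfl

end GrothLib.DepthFlat
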